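import Cfsg.Agent.Lib.SelfCentNC.Basic
import Cfsg.Agent.Lib.Classical.DicksonTori
import Cfsg.Agent.Lib.Classical.DicksonUnipotent
import Cfsg.Agent.Lib.Classical.PSL2Subgroups

/-!
# Non-cyclic subgroups of `PSL_2(q)` for the special values of `q`
-/

set_option autoImplicit false
set_option linter.style.haveILetI false
set_option linter.unusedSectionVars false

namespace Cfsg.Agent.SelfCentNC

open Matrix PStable Dickson

/-- The special values of `q`. -/
def GoodQ (q : ℕ) : Prop :=
  q = 4 ∨ q = 9 ∨ (q.Prime ∧ ∃ k : ℕ, q = 2 ^ k + 1 ∨ q = 2 ^ k - 1)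

theorem geom_cofactor {x : ℕ} (hx : Odd x) (hx3 : 3 ≤ x) {n k : ℕ} (hn : Odd n) :
    (x ^ n = 2 ^ k + 1 → n = 1) ∧ (x ^ n = 2 ^ k - 1 → n = 1) := by
  constructor
  · intro h
    have hs : Odd (∑ i ∈ Finset.range n, x ^ i) := by
      rw [Finset.odd_sum_iff_odd_card_odd]
      rwa [Finset.filter_true_of_mem (fun i _ => hx.pow), Finset.card_range]
    have hg : ((∑ i ∈ Finset.range n, x ^ i) * (x - 1)) = 2 ^ k := by
      have hd : x - 1 ∣ x ^ n - 1 := by simpa using Nat.sub_dvd_pow_sub_pow x 1 n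
      rw [Nat.geomSum_eq (by omega), Nat.div_mul_cancel hd, h]
      simp
    have h1 : (∑ i ∈ Finset.range n, x ^ i) = 1 :=
      Nat.eq_one_of_dvd_coprimes ((Nat.coprime_two_right.2 hs).pow_right k) dvd_rfl ⟨_, hg.symm⟩
    rw [h1, one_mul] at hg
    have : x ^ n = x := by omega
    rcases Nat.lt_or_ge 1 n with hlt | hle
    · have h' := Nat.pow_lt_pow_right (show 1 < x by omega) hlt
      rw [pow_one] at h'
      omega
    · obtain ⟨j, rfl⟩ := hn
      omega
  · intro h
    obtain ⟨c, hc⟩ : x + 1 ∣ x ^ n + 1 := by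
      simpa using hn.nat_add_dvd_pow_add_pow x 1
    have h2 : x ^ n + 1 = 2 ^ k := by
      have := Nat.two_pow_pos k
      omega
    obtain ⟨a, -, ha⟩ := (Nat.dvd_prime_pow Nat.prime_two).1 (h2 ▸ Dvd.intro c hc.symm)
    -- modulo the next power of two
    by_contra hne
    obtain ⟨j, rfl⟩ := hn
    have hj : 1 ≤ j := by omega
    have ha2 : 2 ≤ a := by
      by_contra hlt
      have : 2 ^ a ≤ 2 ^ 1 := Nat.pow_le_pow_right two_pos (by omega)
      omega
    have hbig : x + 1 < x ^ (2 * j + 1) + 1 := by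
      have := Nat.pow_lt_pow_right (show 1 < x by omega) (show 1 < 2 * j + 1 by omega)
      rw [pow_one] at this
      omega
    have hk : a + 1 ≤ k := by
      by_contra hlt
      have : 2 ^ k ≤ 2 ^ a := Nat.pow_le_pow_right two_pos (by omega)
      omega
    -- `x ^ (2 j + 1) ≡ x` modulo `2 ^ (a + 1)`
    have hsq : x * x ≡ 1 [MOD 2 ^ (a + 1)] := by
      refine ((Nat.modEq_iff_dvd' (by nlinarith)).2 ?_).symm
      have e : x * x - 1 = (x + 1) * (x - 1) := by
        have := Nat.sq_sub_sq x 1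
        simpa [pow_two] using this
      rw [e, ha, pow_succ]
      exact mul_dvd_mul_left _ (Nat.Odd.sub_odd hx odd_one).two_dvd
    have hmod : x ^ (2 * j + 1) ≡ x [MOD 2 ^ (a + 1)] := by
      have e : x ^ (2 * j + 1) = (x * x) ^ j * x := by rw [pow_succ x (2 * j), pow_mul, pow_two]
      rw [e]
      have := (hsq.pow j).mul_right x
      rwa [one_pow, one_mul] at this
    have hdvd : 2 ^ (a + 1) ∣ x + 1 := by
      have h3 := hmod.add_right 1
      rw [h2] at h3
      exact Nat.modEq_zero_iff_dvd.1 (h3.symm.trans (Nat.modEq_zero_iff_dvd.2 (pow_dvd_pow 2 hk)))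
    have := Nat.le_of_dvd (by omega) hdvd
    rw [ha, pow_succ] at this
    have := Nat.two_pow_pos a
    omega

theorem goodQ_of_prime_pow {p n k : ℕ} (hp : p.Prime) (hp2 : p ≠ 2) (hn : 0 < n)
    (h : p ^ n = 2 ^ k + 1 ∨ p ^ n = 2 ^ k - 1) : GoodQ (p ^ n) := by
  have hodd : Odd p := hp.odd_of_ne_two hp2
  have h3 : 3 ≤ p := by
    have := hp.two_le
    omega
  rcases Nat.even_or_odd n with ⟨m, hm⟩ | hno
  swap
  · have hn1 : n = 1 := h.elim (geom_cofactor hodd h3 hno).1 (geom_cofactor hodd h3 hno).2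
    subst hn1
    rw [pow_one] at h ⊢
    exact Or.inr (Or.inr ⟨hp, k, h⟩)
  subst hm
  have hm : 0 < m := by omega
  set r := p ^ m with hr
  have hr3 : 3 ≤ r := le_trans h3 (Nat.le_self_pow hm.ne' p)
  have hrr : p ^ (m + m) = r * r := pow_add _ _ _
  have hro : Odd r := hodd.pow
  rw [hrr] at h ⊢
  rcases h with h | h
  · have e : (r + 1) * (r - 1) = 2 ^ k := by
      rw [← Nat.sq_sub_sq, one_pow, pow_two, h, Nat.add_sub_cancel]
    obtain ⟨a, -, ha⟩ := (Nat.dvd_prime_pow Nat.prime_two).1 (Dvd.intro _ e)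
    obtain ⟨b, -, hb⟩ := (Nat.dvd_prime_pow Nat.prime_two).1 (Dvd.intro_left _ e)
    have hb1 : b = 1 := by
      rcases Nat.lt_or_ge b 2 with hlt | hge
      · interval_cases b <;> omega
      · exfalso
        have h4 : (4 : ℕ) ∣ r - 1 := by
          rw [hb]; exact (show (4 : ℕ) = 2 ^ 2 by norm_num) ▸ pow_dvd_pow 2 hge
        have ha2 : 2 ≤ a := by
          by_contra hlt
          have : 2 ^ a ≤ 2 ^ 1 := Nat.pow_le_pow_right two_pos (by omega)
          omega
        have h4' : (4 : ℕ) ∣ r + 1 := by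
          rw [ha]; exact (show (4 : ℕ) = 2 ^ 2 by norm_num) ▸ pow_dvd_pow 2 ha2
        omega
    subst hb1
    have : r = 3 := by omega
    rw [this]
    exact Or.inr (Or.inl rfl)
  · exfalso
    obtain ⟨c, hc⟩ := hro
    rcases Nat.lt_or_ge k 2 with hlt | hge
    · interval_cases k <;> simp at h <;> nlinarith
    · have h4 : (4 : ℕ) ∣ 2 ^ k := (show (4 : ℕ) = 2 ^ 2 by norm_num) ▸ pow_dvd_pow 2 hge
      have := Nat.two_pow_pos k
      have e : r * r = 4 * (c * c + c) + 1 := by rw [hc]; ring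
      omega

theorem two_pow_of_goodQ {q : ℕ} (h : GoodQ q) (hq : Odd q) :
    ∃ k, (if q % 4 = 1 then q - 1 else q + 1) = 2 ^ k := by
  rcases h with rfl | rfl | ⟨hpr, k, h⟩
  · exact absurd hq (by decide)
  · exact ⟨3, by norm_num⟩
  rcases Nat.lt_or_ge k 2 with hk | hk
  · obtain ⟨j, rfl⟩ := hq
    interval_cases k <;> simp at h
    rcases h with h | h
    · exact ⟨2, by rw [if_neg (by omega)]; omega⟩
    · exfalso
      exact Nat.not_prime_one (by simpa [h] using hpr)
  · have h4 : (4 : ℕ) ∣ 2 ^ k := (show (4 : ℕ) = 2 ^ 2 by norm_num) ▸ pow_dvd_pow 2 hk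
    have := Nat.two_pow_pos k
    refine ⟨k, ?_⟩
    rcases h with h | h
    · rw [if_pos (by omega)]; omega
    · rw [if_neg (by omega)]; omega

theorem zmod_half {h : ℕ} [NeZero h] {a b : ZMod h} (ha : a + a = 0) (ha0 : a ≠ 0)
    (hb : b + b = 0) (hb0 : b ≠ 0) : a = b := by
  have key : ∀ c : ZMod h, c + c = 0 → c ≠ 0 → c.val + c.val = h := fun c hc hc0 => by
    have h1 : c.val ≠ 0 := fun e => hc0 ((ZMod.val_eq_zero c).1 e)
    have h2 := ZMod.val_lt c
    have h3 : h ∣ c.val + c.val := by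
      rw [← ZMod.natCast_eq_zero_iff, Nat.cast_add, ZMod.natCast_zmod_val, hc]
    obtain ⟨d, hd⟩ := h3
    rcases d with _ | _ | d
    · omega
    · omega
    · have : h * (d + 1 + 1) = h * d + (h + h) := by ring
      omega
  refine ZMod.val_injective h ?_
  have := key a ha ha0
  have := key b hb hb0
  omega

section Dihedral

variable {X : Type*} [Group X] {h : ℕ} [NeZero h]

/-- The centralizer of a non-involution in a dihedral group is cyclic. -/
theorem dihedral_cyclic (ψ : X →* DihedralGroup h) (hψ : Function.Injective ψ)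
    {d : DihedralGroup h} (hd : d * d ≠ 1) (hc : ∀ x, ψ x * d = d * ψ x) : IsCyclic X := by
  obtain ⟨i, rfl⟩ : ∃ i, d = .r i := by
    rcases d with i | i
    · exact ⟨i, rfl⟩
    · exact absurd (DihedralGroup.sr_mul_self i) hd
  have hmem : ∀ x, ψ x ∈ Subgroup.zpowers (DihedralGroup.r (1 : ZMod h)) := fun x => by
    cases hx : ψ x with
    | r j =>
      exact ⟨(j.val : ℤ), by simp [DihedralGroup.r_one_pow]⟩
    | sr j =>
      exfalso
      have := hc x
      rw [hx, DihedralGroup.sr_mul_r, DihedralGroup.r_mul_sr] at this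
      injection this with e
      refine hd ?_
      rw [DihedralGroup.r_mul_r, DihedralGroup.one_def]
      congr 1
      linear_combination e
  exact isCyclic_of_injective (ψ.codRestrict _ hmem) fun a b e =>
    hψ (congrArg Subtype.val e)

/-- In a dihedral 2-group a non-cyclic subgroup contains each central involution. -/
theorem dihedral_central (ψ : X →* DihedralGroup h) (hψ : Function.Injective ψ)
    (hh : ∃ m, h = 2 ^ m) (hX : ¬ IsCyclic X) {d : DihedralGroup h} (hd1 : d ≠ 1) (hd : d * d = 1)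
    (hc : ∀ y, y * d = d * y) : ∃ x, ψ x = d := by
  obtain ⟨m, rfl⟩ := hh
  haveI : Finite X := Finite.of_injective ψ hψ
  -- a rotation
  obtain ⟨x, i, hi, hi0⟩ : ∃ x i, ψ x = .r i ∧ i ≠ 0 := by
    by_contra hcon
    push Not at hcon
    refine hX ?_
    by_cases hs : ∀ x : X, x = 1
    · haveI : Subsingleton X := ⟨fun a b => (hs a).trans (hs b).symm⟩
      infer_instance
    push Not at hs
    obtain ⟨x, hx⟩ := hs
    have hsr : ∀ y : X, y ≠ 1 → ∃ j, ψ y = .sr j := fun y hy => by
      cases hy' : ψ y with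
      | r j =>
        exfalso
        have := hcon y j hy'
        subst this
        exact hy (hψ (by rw [hy', map_one]; rfl))
      | sr j => exact ⟨j, rfl⟩
    refine ⟨⟨x, fun y => ?_⟩⟩
    by_cases hy : y = 1
    · exact ⟨0, by simp [hy]⟩
    obtain ⟨a, ha⟩ := hsr x hx
    obtain ⟨b, hb⟩ := hsr y hy
    have hab : ψ (x * y) = .r (b - a) := by rw [map_mul, ha, hb, DihedralGroup.sr_mul_sr]
    have := hcon (x * y) _ hab
    rw [sub_eq_zero] at this
    exact ⟨1, by simp only [zpow_one]; exact hψ (by rw [ha, hb, this])⟩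
  -- the involution below it
  obtain ⟨b, -, hb⟩ := (Nat.dvd_prime_pow Nat.prime_two).1
    (show orderOf (ψ x) ∣ 2 ^ m by
      rw [hi, DihedralGroup.orderOf_r]
      exact Nat.div_dvd_of_dvd (Nat.gcd_dvd_left _ _))
  have hb0 : b ≠ 0 := fun e => hi0 (by
    rw [e, pow_zero, orderOf_eq_one_iff, hi, DihedralGroup.one_def] at hb
    injection hb)
  obtain ⟨b, rfl⟩ := Nat.exists_eq_succ_of_ne_zero hb0
  set u := ψ x ^ (2 ^ b) with hu
  have huo : orderOf u = 2 := by
    rw [hu, orderOf_pow' _ (by positivity), hb, pow_succ, Nat.gcd_mul_right_left,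
      Nat.mul_div_cancel_left _ (Nat.two_pow_pos b)]
  obtain ⟨j, hj⟩ : ∃ j, u = .r j := ⟨_, by rw [hu, hi, DihedralGroup.r_pow]⟩
  have huu : u * u = 1 := Invol.mul_self huo
  have hu1 : u ≠ 1 := fun e => by rw [e, orderOf_one] at huo; norm_num at huo
  have hj2 : j + j = 0 := by
    rw [hj, DihedralGroup.r_mul_r, DihedralGroup.one_def] at huu
    injection huu
  have hj0 : j ≠ 0 := fun e => hu1 (by rw [hj, e, DihedralGroup.one_def])
  rcases d with l | l
  · refine ⟨x ^ (2 ^ b), ?_⟩
    rw [map_pow, ← hu, hj]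
    congr 1
    refine zmod_half hj2 hj0 ?_ fun e => hd1 (by rw [e, DihedralGroup.one_def])
    rw [DihedralGroup.r_mul_r, DihedralGroup.one_def] at hd
    injection hd
  · -- then the group has order four
    have h2 := hc (.r 1)
    rw [DihedralGroup.r_mul_sr, DihedralGroup.sr_mul_r] at h2
    injection h2 with h2
    have hdvd : 2 ^ m ∣ 2 := by
      rw [← ZMod.natCast_eq_zero_iff]; push_cast; linear_combination -h2
    have hX4 : Nat.card (DihedralGroup (2 ^ m)) ∣ 4 := by
      rw [DihedralGroup.nat_card]; exact mul_dvd_mul_left 2 hdvd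
    have hXd : Nat.card X ∣ Nat.card (DihedralGroup (2 ^ m)) := Subgroup.card_dvd_of_injective ψ hψ
    have hsurj : Function.Surjective ψ := by
      refine ((Nat.bijective_iff_injective_and_card ψ).2 ⟨hψ, ?_⟩).2
      have h4 : Nat.card X = 4 := by
        obtain ⟨c, hc', hc4⟩ := (Nat.dvd_prime_pow Nat.prime_two).1
          (show Nat.card X ∣ 2 ^ 2 from hXd.trans hX4)
        interval_cases c
        · haveI : Subsingleton X := (Nat.card_eq_one_iff_unique.1 hc4).1
          exact absurd isCyclic_of_subsingleton hX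
        · haveI : Fact (Nat.Prime 2) := ⟨Nat.prime_two⟩
          exact absurd (isCyclic_of_prime_card (p := 2) hc4) hX
        · exact hc4
      exact Nat.dvd_antisymm hXd (h4 ▸ hX4)
    exact hsurj _

end Dihedral

variable {F : Type*} [Field F] [Finite F]

local notation "SL2" => Matrix.SpecialLinearGroup (Fin 2) F
local notation "M2" => Matrix (Fin 2) (Fin 2) F
local notation "P" => Matrix.ProjectiveSpecialLinearGroup (Fin 2) F

theorem exists_unip_lift (p : ℕ) [hp : Fact p.Prime] [CharP F p] {g : P} (hg : g ^ p = 1) :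
    ∃ u : SL2, u ^ p = 1 ∧ PSL2Inv.pr u = g := by
  obtain ⟨x, rfl⟩ := PSL2Inv.pr_surjective g
  have hs : IsSc (x ^ p) := pr_eq_one.1 (by rw [map_pow, hg])
  by_cases h1 : x ^ p = 1
  · exact ⟨x, h1, rfl⟩
  have hneg : ((x ^ p : SL2) : M2) = -1 :=
    hs.eq_or_eq.resolve_left fun e => h1 (Subtype.ext e)
  have hsq : (x ^ p) ^ 2 = 1 := Subtype.ext (by
    rw [Matrix.SpecialLinearGroup.coe_pow, hneg, neg_one_sq, Matrix.SpecialLinearGroup.coe_one])
  have hp2 : p ≠ 2 := by
    rintro rfl
    refine h1 (Subtype.ext ?_)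
    haveI : CharP M2 2 := inferInstance
    rw [hneg, Matrix.SpecialLinearGroup.coe_one]
    exact CharTwo.neg_eq 1
  obtain ⟨j, hj⟩ := (hp.out.odd_of_ne_two hp2).add_odd odd_one
  refine ⟨x ^ (p + 1), ?_, ?_⟩
  · rw [← pow_mul, Nat.mul_comm, pow_mul, hj, ← two_mul, pow_mul, hsq, one_pow]
  · rw [pow_succ, map_mul, map_pow, hg, one_mul]

/-- The centralizer of an element of order `p` has order `q`. -/
theorem card_cent_unip (p : ℕ) [hp : Fact p.Prime] [CharP F p] {g : P} (hg : g ^ p = 1)
    (hg1 : g ≠ 1) : Nat.card (Subgroup.centralizer ({g} : Set P)) = Nat.card F := by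
  obtain ⟨u, hu, rfl⟩ := exists_unip_lift p hg
  have hu1 : u ≠ 1 := fun e => hg1 (by rw [e, map_one])
  have hsat : Saturated (⊤ : Subgroup SL2) := fun x _ => Subgroup.mem_top x
  have hmap : (cent (⊤ : Subgroup SL2) u).map (PSL2Inv.pr (F := F)) =
      Subgroup.centralizer ({PSL2Inv.pr u} : Set P) := by
    ext v
    rw [Subgroup.mem_centralizer_singleton_iff]
    constructor
    · rintro ⟨y, hy, rfl⟩
      rw [← map_mul, ← map_mul, (mem_cent.1 hy).2]
    · intro hv
      obtain ⟨y, rfl⟩ := PSL2Inv.pr_surjective v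
      refine ⟨y, mem_cent.2 ⟨Subgroup.mem_top _, ?_⟩, rfl⟩
      have hs : IsSc (u⁻¹ * (y * u * y⁻¹)) := pr_eq_one.1 (by
        rw [map_mul, map_mul, map_mul, map_inv, map_inv, hv, mul_inv_cancel_right, inv_mul_cancel])
      rcases hs.eq_or_eq with e | e
      · have e1 : u⁻¹ * (y * u * y⁻¹) = 1 := Subtype.ext e
        rw [inv_mul_eq_one] at e1
        exact (eq_mul_inv_iff_mul_eq.1 e1).symm
      · have h2 : (2 : F) * 2 = 0 := by
          have e1 : (((y * u * y⁻¹ : SL2)) : M2) = -(u : M2) := by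
            rw [show y * u * y⁻¹ = u * (u⁻¹ * (y * u * y⁻¹)) by group,
              Matrix.SpecialLinearGroup.coe_mul, e, mul_neg, mul_one]
          have t1 := trace_of_pow_char (F := F) (p := p) (x := y * u * y⁻¹)
            (by rw [conj_pow, hu, mul_one, mul_inv_cancel])
          rw [e1, Matrix.trace_neg, trace_of_pow_char hu] at t1
          linear_combination -t1
        have h20 : (2 : F) = 0 := mul_self_eq_zero.1 h2
        have e1 : u⁻¹ * (y * u * y⁻¹) = 1 := Subtype.ext (by
          rw [e, Matrix.SpecialLinearGroup.coe_one]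
          ext i j
          rw [Matrix.neg_apply]
          linear_combination -((1 : M2) i j) * h20)
        rw [inv_mul_eq_one] at e1
        exact (eq_mul_inv_iff_mul_eq.1 e1).symm
  have h1 := Dickson.card_map (saturated_cent hsat u)
  rw [hmap] at h1
  obtain ⟨g₀, hg₀⟩ := exists_conj_upp (p := p) hu hu1
  have hc : conjGL g₀ u = upp 1 := by
    apply Subtype.ext
    rw [conjGL_val, mul_assoc, hg₀, ← mul_assoc, ← Units.val_mul, inv_mul_cancel, Units.val_one,
      one_mul]
  have hbij : Function.Bijective (conjGL g₀) :=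
    ⟨conjGL_injective g₀, Finite.surjective_of_injective (conjGL_injective g₀)⟩
  have hmap2 : (cent (⊤ : Subgroup SL2) u).map (conjGL g₀) = cent ⊤ (upp 1) := by
    ext v
    rw [mem_cent]
    constructor
    · rintro ⟨y, hy, rfl⟩
      exact ⟨trivial, by rw [← hc, ← map_mul, ← map_mul, (mem_cent.1 hy).2]⟩
    · rintro ⟨-, hv⟩
      obtain ⟨y, rfl⟩ := hbij.2 v
      exact ⟨y, mem_cent.2 ⟨trivial, hbij.1 (by rw [map_mul, map_mul, hc]; exact hv)⟩, rfl⟩
  have h2 := Subgroup.card_map_of_injective (f := conjGL g₀) (conjGL_injective g₀)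
    (K := cent (⊤ : Subgroup SL2) u)
  rw [hmap2, card_cent_upp' hsat] at h2
  have hadd : Nat.card (addPart (⊤ : Subgroup SL2)) = Nat.card F := by
    rw [show addPart (⊤ : Subgroup SL2) = ⊤ from eq_top_iff.2 fun a _ => Subgroup.mem_top (upp a)]
    exact AddSubgroup.card_top
  rw [hadd, h1] at h2
  exact (Nat.eq_of_mul_eq_mul_left Nat.card_pos h2).symm

theorem card_cent_invol (h2 : (2 : F) ≠ 0) {x : P} (hx : x * x = 1) (hx1 : x ≠ 1) :
    Nat.card (Subgroup.centralizer ({x} : Set P)) =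
      if Nat.card F % 4 = 1 then Nat.card F - 1 else Nat.card F + 1 := by
  obtain ⟨c, hc⟩ := isConj_iff.1 (PSL2Inv.isConj_pr_w h2 hx hx1)
  rw [← SL2Inv.card_C (F := F) h2, ← PSL2Inv.card_centralizer h2, ← hc]
  exact BSW.card_Cz_conj _ c

/-- The converse direction. -/
theorem sc_psl (hq : GoodQ (Nat.card F)) : SC P := by
  intro H hH z hz
  haveI := Fintype.ofFinite F
  obtain ⟨p, hp⟩ := CharP.exists F
  obtain ⟨n, hpp, hn⟩ := FiniteField.card F p
  haveI := Fact.mk hpp
  rw [← Nat.card_eq_fintype_card] at hn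
  rw [Subgroup.mem_centralizer_iff] at hz
  have hHC : H ≤ Subgroup.centralizer ({z} : Set P) := fun x hx =>
    Subgroup.mem_centralizer_singleton_iff.2 (hz x hx)
  by_cases hz1 : z = 1
  · exact hz1 ▸ one_mem H
  by_cases hzp : z ^ p = 1
  · have hcard := card_cent_unip p hzp hz1
    rcases hq with hq | hq | ⟨hq, -⟩
    rotate_left 2
    · haveI := Fact.mk hq
      haveI : IsCyclic (Subgroup.centralizer ({z} : Set P)) :=
        isCyclic_of_prime_card (p := Nat.card F) hcard
      exact absurd (isCyclic_of_injective (Subgroup.inclusion hHC)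
        (Subgroup.inclusion_injective hHC)) hH
    all_goals
      have h2 : ∃ r : ℕ, r.Prime ∧ Nat.card F = r ^ 2 := by
        by_cases h4 : Nat.card F = 4
        · exact ⟨2, Nat.prime_two, by rw [h4]; norm_num⟩
        · exact ⟨3, Nat.prime_three, by omega⟩
      obtain ⟨r, hr, hr2⟩ := h2
      haveI := Fact.mk hr
      have hdvd := Subgroup.card_dvd_of_le hHC
      rw [hcard, hr2] at hdvd
      obtain ⟨c, hc2, hc⟩ := (Nat.dvd_prime_pow hr).1 hdvd
      interval_cases c
      · haveI : Subsingleton H := (Nat.card_eq_one_iff_unique.1 (by simpa using hc)).1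
        exact absurd isCyclic_of_subsingleton hH
      · exact absurd (isCyclic_of_prime_card (p := r) (by simpa using hc)) hH
      · rw [Subgroup.eq_of_le_of_card_ge hHC (by rw [hcard, hr2, hc])]
        exact Subgroup.mem_centralizer_singleton_iff.2 rfl
  obtain ⟨D, h, hh, ⟨e⟩, hD, hmem, hfix⟩ := torus_dihedral' p hzp
  have hCD : Subgroup.centralizer ({z} : Set P) ≤ D := fun m hm => hmem m (by
    rw [Subgroup.mem_centralizer_singleton_iff.1 hm, mul_inv_cancel_right]
    exact Subgroup.mem_zpowers z)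
  have hzD : z ∈ D := hCD (Subgroup.mem_centralizer_singleton_iff.2 rfl)
  haveI : NeZero h := ⟨fun e0 => by
    have hp := Nat.card_pos (α := D)
    rw [hD, e0] at hp; omega⟩
  set ψ : H →* DihedralGroup h := e.toMonoidHom.comp (Subgroup.inclusion (hHC.trans hCD)) with hψ
  have hψi : Function.Injective ψ :=
    e.injective.comp (Subgroup.inclusion_injective _)
  by_cases hzz : z * z = 1
  swap
  · refine absurd (dihedral_cyclic ψ hψi (d := e ⟨z, hzD⟩) ?_ fun x => ?_) hH
    · rw [← map_mul]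
      exact fun e0 => hzz (congrArg Subtype.val (e.map_eq_one_iff.1 e0))
    · show e _ * e _ = e _ * e _
      rw [← map_mul, ← map_mul]
      exact congrArg e (Subtype.ext (hz _ x.2))
  have hp2 : p ≠ 2 := by rintro rfl; exact hzp (by rw [pow_two, hzz])
  have hodd : Odd (Nat.card F) := by rw [hn]; exact (hpp.odd_of_ne_two hp2).pow
  have h2 : (2 : F) ≠ 0 := PSL2Sub.two_ne_zero_of_odd hodd
  have hDC : D ≤ Subgroup.centralizer ({z} : Set P) := fun m hm => by
    rw [Subgroup.mem_centralizer_singleton_iff]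
    have hzi : z⁻¹ = z := inv_eq_of_mul_eq_one_right hzz
    exact mul_inv_eq_iff_eq_mul.1 ((hfix m hm).elim id fun h' => h'.trans hzi)
  obtain ⟨k, hk⟩ := two_pow_of_goodQ hq hodd
  have hCeq : Nat.card D = 2 ^ k := by
    rw [le_antisymm hDC hCD, card_cent_invol h2 hzz hz1, hk]
  have hhm : ∃ m, h = 2 ^ m := by
    obtain ⟨m, -, hm⟩ := (Nat.dvd_prime_pow Nat.prime_two).1
      (show h ∣ 2 ^ k from ⟨2, by rw [← hCeq, hD, mul_comm]⟩)
    exact ⟨m, hm⟩
  obtain ⟨x, hx⟩ := dihedral_central ψ hψi hhm hH (d := e ⟨z, hzD⟩)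
    (fun e0 => hz1 (congrArg Subtype.val (e.map_eq_one_iff.1 e0)))
    (by
      have e0 : (⟨z, hzD⟩ : D) * ⟨z, hzD⟩ = 1 := Subtype.ext hzz
      rw [← map_mul, e0, map_one])
    (fun y => by
      obtain ⟨v, rfl⟩ := e.surjective y
      rw [← map_mul, ← map_mul]
      exact congrArg e (Subtype.ext (Subgroup.mem_centralizer_singleton_iff.1 (hDC v.2))))
  have hxz : (x : P) = z := congrArg Subtype.val (e.injective hx)
  exact hxz ▸ x.2

theorem SC.of_equiv {A B : Type*} [Group A] [Group B] (e : A ≃* B) (h : SC A) : SC B := by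
  intro H hH b hb
  rw [Subgroup.mem_centralizer_iff] at hb
  have hH' : ¬ IsCyclic (H.comap e.toMonoidHom) := fun hc => hH (by
    haveI := hc
    exact isCyclic_of_surjective
      ((e.toMonoidHom.comp (H.comap e.toMonoidHom).subtype).codRestrict H fun x => x.2)
      fun y => ⟨⟨e.symm y, by simp⟩, Subtype.ext (e.apply_symm_apply _)⟩)
  have := h _ hH' (x := e.symm b) (Subgroup.mem_centralizer_iff.2 fun a ha => e.injective (by
    simpa using hb (e a) ha))
  simpa using this

end Cfsg.Agent.SelfCentNC
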