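import Cfsg.Agent.S0071
import Cfsg.Agent.S0640
import Cfsg.Agent.S0199
import Cfsg.Agent.S0508
import Cfsg.Agent.S3116
import Cfsg.Agent.Lib.BrauerSuzuki.Sylow
import Cfsg.Agent.Lib.TwoGroups.CentFour
import Cfsg.Agent.Lib.TwoGroups.QDFusion
import Cfsg.Agent.Lib.Classical.FourGroup

/-!
# Simple groups in which non-cyclic subgroups are self-centralizing
-/

set_option autoImplicit false
set_option linter.style.haveILetI false
set_option linter.unusedSectionVars false

namespace Cfsg.Agent.SelfCentNC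

open Subgroup

universe u

/-- Non-cyclic subgroups contain their centralizers. -/
def SC (G : Type u) [Group G] : Prop :=
  ∀ H : Subgroup G, ¬ IsCyclic ↥H → Subgroup.centralizer (H : Set G) ≤ H

variable {G : Type u} [Group G] [Finite G]

theorem sc_mem (h : SC G) {H : Subgroup G} (hH : ¬ IsCyclic H) {g : G}
    (hg : ∀ x ∈ H, g * x = x * g) : g ∈ H :=
  h H hH (mem_centralizer_iff.2 fun x hx => (hg x hx).symm)

theorem center_eq_bot [IsSimpleGroup G] (hna : ¬ IsMulCommutative G) :
    Subgroup.center G = ⊥ := by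
  refine (IsSimpleGroup.eq_bot_or_eq_top_of_normal _ inferInstance).resolve_right fun htop => hna ?_
  exact ⟨⟨fun a b => (mem_center_iff.1 (htop ▸ mem_top a : a ∈ center G) b).symm⟩⟩

theorem not_isPGroup [IsSimpleGroup G] (hna : ¬ IsMulCommutative G) (p : ℕ) [Fact p.Prime]
    (hP : IsPGroup p G) : False := by
  haveI := hP.center_nontrivial
  exact not_subsingleton (Subgroup.center G) (by rw [center_eq_bot hna]; infer_instance)

/-- The order is even. -/
theorem two_dvd [IsSimpleGroup G] (hna : ¬ IsMulCommutative G) (h : SC G) :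
    2 ∣ Nat.card G := by
  by_contra hodd
  set p := (Nat.card G).minFac with hpdef
  have h1 : Nat.card G ≠ 1 := fun e => hna (by
    haveI : Subsingleton G := (Nat.card_eq_one_iff_unique.1 e).1
    exact ⟨⟨fun a b => Subsingleton.elim _ _⟩⟩)
  haveI : Fact p.Prime := ⟨Nat.minFac_prime h1⟩
  have hp2 : p ≠ 2 := fun e => hodd (e ▸ Nat.minFac_dvd _)
  obtain ⟨P⟩ : Nonempty (Sylow p G) := inferInstance
  obtain ⟨N, hN, hNP⟩ := (Cfsg.Agent.S0071.result P).2 (fun Q hQ g hg hcop => by
    have hQp : IsPGroup p Q := P.isPGroup'.to_le hQ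
    -- the rank is at most two
    have hrk : Cfsg.PRankLE p 2 Q := by
      intro A hA hexp
      by_contra hlt
      have hAp : IsPGroup p A := hQp.to_subgroup A
      obtain ⟨n, hn⟩ := IsPGroup.iff_card.1 hAp
      have h3 : p ^ 2 ∣ Nat.card A := by
        rw [hn] at hlt ⊢
        refine pow_dvd_pow p ?_
        by_contra hh
        exact hlt (Nat.pow_le_pow_right (Nat.minFac_pos _) (by omega))
      obtain ⟨E, hE⟩ := Sylow.exists_subgroup_card_pow_prime (G := A) p h3
      set f : A →* G := Q.subtype.comp A.subtype with hf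
      have hfi : Function.Injective f := Q.subtype_injective.comp A.subtype_injective
      have hcardE : Nat.card (E.map f) = p ^ 2 :=
        hE ▸ (Nat.card_congr (E.equivMapOfInjective f hfi).toEquiv).symm
      have hnc : ¬ IsCyclic (E.map f) := by
        intro hc
        obtain ⟨y, hy⟩ := hc.exists_ofOrder_eq_natCard
        rw [hcardE] at hy
        obtain ⟨x, hx, hxy⟩ := y.2
        have hyp : y ^ p = 1 := by
          apply Subtype.ext
          rw [SubgroupClass.coe_pow, ← hxy, ← map_pow]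
          have : x ^ p = 1 := by
            apply Subtype.ext
            rw [SubgroupClass.coe_pow]
            exact hexp _ x.2
          rw [this, map_one]; rfl
        have := Nat.le_of_dvd (Nat.minFac_pos _) (hy ▸ orderOf_dvd_of_pow_eq_one hyp)
        have h2 := (Nat.minFac_prime h1).two_le
        rw [pow_two] at this
        have : 2 * p ≤ p * p := Nat.mul_le_mul_right p h2
        have := Nat.minFac_pos (Nat.card G)
        omega
      have hle : f.range ≤ E.map f := by
        rintro _ ⟨a, rfl⟩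
        refine sc_mem h hnc ?_
        rintro _ ⟨x, -, rfl⟩
        rw [← map_mul, ← map_mul]
        congr 1
        exact Subtype.ext (hA.is_comm.comm _ _ |> congrArg Subtype.val)
      have := Nat.card_le_card_of_injective _ (Subgroup.inclusion_injective hle)
      rw [hcardE, Nat.card_congr (MonoidHom.ofInjective hfi).toEquiv.symm] at this
      exact hlt this
    -- hence odd automorphisms are trivial
    set φ := Subgroup.normalizerMonoidHom Q with hφ
    by_cases hone : φ ⟨g, hg⟩ = 1
    · refine mem_centralizer_iff.2 fun x hx => ?_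
      have := congrArg (fun z : MulAut Q => (z ⟨x, hx⟩ : G)) hone
      simp only [hφ, MulAut.one_apply] at this
      change g * x * g⁻¹ = x at this
      exact (mul_inv_eq_iff_eq_mul.1 this).symm
    exfalso
    obtain ⟨q, hq, hqd⟩ := Nat.exists_prime_and_dvd (mt orderOf_eq_one_iff.1 hone)
    have hqg : q ∣ orderOf g := by
      have := hqd.trans (orderOf_map_dvd φ ⟨g, hg⟩)
      rwa [Subgroup.orderOf_mk] at this
    have hqp : q ≠ p := fun e => by
      subst e
      exact hq.ne_one (Nat.eq_one_of_dvd_coprimes hcop hqg dvd_rfl)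
    have hlt := (Cfsg.Agent.S0640.result hp2 hQp hrk q hq hqp (hqd.trans (orderOf_dvd_natCard _))).2
    have := Nat.minFac_le_of_dvd hq.two_le (hqg.trans (orderOf_dvd_natCard g))
    omega)
  rcases IsSimpleGroup.eq_bot_or_eq_top_of_normal N hN with hb | ht
  · subst hb
    have hPtop : (P : Subgroup G) = ⊤ := Subgroup.eq_top_of_card_eq _ (by
      have := hNP.card_mul_card; rwa [Subgroup.card_bot, one_mul] at this)
    exact not_isPGroup hna p ((hPtop ▸ P.isPGroup').of_equiv Subgroup.topEquiv)
  · subst ht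
    refine P.ne_bot_of_dvd_card (Nat.minFac_dvd _) ?_
    exact Subgroup.isComplement'_top_left.1 hNP

/-- Two commuting involutions. -/
theorem exists_commuting [IsSimpleGroup G] (hna : ¬ IsMulCommutative G) (h : SC G) :
    ∃ a b : G, orderOf a = 2 ∧ orderOf b = 2 ∧ Commute a b ∧ a ≠ b := by
  by_contra hcon
  push Not at hcon
  have hR : BrauerSuzuki.RankOne G := hcon
  obtain ⟨z, hz⟩ := exists_prime_orderOf_dvd_card' (G := G) 2 (two_dvd hna h)
  have hI := BrauerSuzuki.inZStar G hR z hz
  have hcore : Cfsg.pPrimeCore 2 G = ⊥ := by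
    refine (IsSimpleGroup.eq_bot_or_eq_top_of_normal _
      (Cfsg.Agent.FittingCores.pPrimeCore_normal 2)).resolve_right fun htop => ?_
    have h2 := Cfsg.Agent.FittingCores.pPrimeCore_coprime (G := G) 2
    rw [htop, Subgroup.card_top] at h2
    exact Nat.prime_two.coprime_iff_not_dvd.1 h2.symm (two_dvd hna h)
  have hzc : z ∈ Subgroup.center G := mem_center_iff.2 fun g => by
    have h1 := hI g
    rw [hcore, Subgroup.mem_bot] at h1
    exact mul_inv_eq_iff_eq_mul.1 (mul_inv_eq_one.1 h1)
  rw [center_eq_bot hna, Subgroup.mem_bot] at hzc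
  rw [hzc, orderOf_one] at hz
  norm_num at hz

theorem four_self (h : SC G) {a b : G} (ha : orderOf a = 2) (hb : orderOf b = 2)
    (hab : Commute a b) (hne : a ≠ b) {g : G} (hga : g * a = a * g) (hgb : g * b = b * g) :
    g = 1 ∨ g = a ∨ g = b ∨ g = a * b := by
  obtain ⟨E, hE, haE, hbE⟩ := BrauerSuzuki.exists_klein ha hb hab hne
  have ha1 : a ≠ 1 := fun e => by rw [e, orderOf_one] at ha; norm_num at ha
  have hb1 : b ≠ 1 := fun e => by rw [e, orderOf_one] at hb; norm_num at hb
  have hEeq := FourGroup.eq_four hE haE hbE ha1 hb1 hne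
  have hnc : ¬ IsCyclic E := by
    haveI := hE
    exact IsKleinFour.not_isCyclic
  have hg : g ∈ E := sc_mem h hnc fun x hx => by
    rw [hEeq, FourGroup.mem_four] at hx
    rcases hx with rfl | rfl | rfl | rfl
    · simp
    · exact hga
    · exact hgb
    · rw [← mul_assoc, hga, mul_assoc, hgb, ← mul_assoc]
  rwa [hEeq, FourGroup.mem_four] at hg

/-- A Sylow 2-subgroup with a central involution and another one. -/
structure Frame (G : Type u) [Group G] where
  T : Sylow 2 G
  t : G
  s : G
  ht : orderOf t = 2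
  hs : orderOf s = 2
  tT : t ∈ (T : Subgroup G)
  sT : s ∈ (T : Subgroup G)
  ne : s ≠ t
  cent : ∀ x ∈ (T : Subgroup G), x * t = t * x

theorem exists_frame [IsSimpleGroup G] (hna : ¬ IsMulCommutative G) (h : SC G) :
    Nonempty (Frame G) := by
  haveI : Fact (Nat.Prime 2) := ⟨Nat.prime_two⟩
  obtain ⟨a, b, ha, hb, hab, hne⟩ := exists_commuting hna h
  obtain ⟨E, hE, haE, hbE⟩ := BrauerSuzuki.exists_klein ha hb hab hne
  have hEp : IsPGroup 2 E := IsPGroup.of_card (n := 2) (by rw [hE.card_four]; norm_num)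
  obtain ⟨T, hT⟩ := hEp.exists_le_sylow
  haveI : Nontrivial (T : Subgroup G) :=
    ⟨⟨⟨a, hT haE⟩, ⟨b, hT hbE⟩, fun e => hne (congrArg Subtype.val e)⟩⟩
  obtain ⟨z, hz, hzo⟩ := CentFour.exists_central_involution T.isPGroup'
  have hzc : ∀ x ∈ (T : Subgroup G), x * (z : G) = z * x := fun x hx =>
    congrArg Subtype.val (mem_center_iff.1 hz ⟨x, hx⟩)
  rw [← Subgroup.orderOf_coe] at hzo
  by_cases haz : a = z
  · exact ⟨⟨T, z, b, hzo, hb, z.2, hT hbE, fun e => hne (haz.trans e.symm), hzc⟩⟩
  · exact ⟨⟨T, z, a, hzo, ha, z.2, hT haE, haz, hzc⟩⟩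

namespace Frame

variable (D : Frame G)

theorem comm : Commute D.s D.t := D.cent D.s D.sT

/-- The centralizer in `T` of a non-central involution has order four. -/
theorem card_cent (h : SC G) {R : Subgroup G} (hR : R ≤ (D.T : Subgroup G)) (htR : D.t ∈ R)
    {x : G} (hx : orderOf x = 2) (hxt : x ≠ D.t) (hxR : x ∈ R) :
    Nat.card (Subgroup.centralizer ({(⟨x, hxR⟩ : R)} : Set R)) = 4 := by
  have hc : Commute x D.t := D.cent x (hR hxR)
  obtain ⟨E, hE, hxE, htE⟩ := BrauerSuzuki.exists_klein hx D.ht hc hxt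
  have hmap : (Subgroup.centralizer ({(⟨x, hxR⟩ : R)} : Set R)).map R.subtype = E := by
    have hx1 : x ≠ 1 := fun e => by rw [e, orderOf_one] at hx; norm_num at hx
    have ht1 : D.t ≠ 1 := fun e => by have := D.ht; rw [e, orderOf_one] at this; norm_num at this
    have hEeq := FourGroup.eq_four hE hxE htE hx1 ht1 hxt
    ext v
    rw [hEeq, FourGroup.mem_four]
    constructor
    · rintro ⟨⟨w, hw⟩, hwC, rfl⟩
      exact four_self h hx D.ht hc hxt
        (congrArg Subtype.val (mem_centralizer_singleton_iff.1 hwC)) (D.cent w (hR hw))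
    · intro hv
      have hvR : v ∈ R := by
        rcases hv with rfl | rfl | rfl | rfl
        exacts [one_mem _, hxR, htR, mul_mem hxR htR]
      refine ⟨⟨v, hvR⟩, mem_centralizer_singleton_iff.2 (Subtype.ext ?_), rfl⟩
      show v * x = x * v
      rcases hv with rfl | rfl | rfl | rfl
      · simp
      · rfl
      · exact hc.eq.symm
      · rw [mul_assoc, hc.eq.symm]
  have := hE.card_four
  rw [← hmap, Subgroup.card_map_of_injective R.subtype_injective] at this
  exact this

theorem card_cent' (h : SC G) {R : Subgroup G} (hR : R ≤ (D.T : Subgroup G)) (htR : D.t ∈ R)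
    (hsR : D.s ∈ R) :
    Nat.card (Subgroup.centralizer ({(⟨D.s, hsR⟩ : R)} : Set R)) = 4 :=
  D.card_cent h hR htR D.hs D.ne hsR

/-- An odd automorphism of a subgroup of the Sylow group fixing `t` is trivial. -/
theorem aut_trivial (h : SC G) {R : Subgroup G} (hR : R ≤ (D.T : Subgroup G)) (htR : D.t ∈ R)
    (hsR : D.s ∈ R) (φ : MulAut R) {n : ℕ} (hn : Odd n) (hφn : φ ^ n = 1)
    (hφ : φ ⟨D.t, htR⟩ = ⟨D.t, htR⟩) : φ = 1 := by
  haveI : Fact (Nat.Prime 2) := ⟨Nat.prime_two⟩
  have hRp : IsPGroup 2 R := D.T.isPGroup'.to_le hR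
  have hcop : ∀ j : ℕ, φ ^ (2 ^ j) = 1 → φ = 1 := fun j hj => by
    rw [← orderOf_eq_one_iff]
    exact Nat.eq_one_of_dvd_coprimes ((Nat.coprime_two_left.2 hn).pow_left j)
      (orderOf_dvd_of_pow_eq_one hj) (orderOf_dvd_of_pow_eq_one hφn)
  have hC := D.card_cent' h hR htR hsR
  have hso : orderOf (⟨D.s, hsR⟩ : R) = 2 := by rw [← Subgroup.orderOf_coe]; exact D.hs
  have big : (∃ n : ℕ, 4 ≤ n ∧ Nonempty (R ≃* DihedralGroup n)) ∨ Cfsg.IsQuasiDihedral R →
      φ = 1 := fun hh => by
    obtain ⟨j, hj⟩ := Cfsg.Agent.S3116.result hRp hh φ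
    exact hcop j hj
  by_cases h4 : Nat.card R = 4
  swap
  · refine big ?_
    rcases CentFour.dihedral_or_quasiDihedral hRp hso hC with ⟨m, ⟨e⟩⟩ | hq | hc
    · refine Or.inl ⟨m, ?_, ⟨e⟩⟩
      have hcard : Nat.card R = 2 * m := by
        rw [Nat.card_congr e.toEquiv, DihedralGroup.nat_card]
      obtain ⟨k, hk⟩ := IsPGroup.iff_card.1 hRp
      have hd : 4 ∣ Nat.card R := hC ▸ Subgroup.card_subgroup_dvd_card _
      have hk3 : 3 ≤ k := by
        by_contra hlt
        have hpos : 0 < Nat.card R := Nat.card_pos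
        have := Nat.le_of_dvd hpos hd
        rw [hk] at this h4
        interval_cases k <;> omega
      have : 2 ^ 3 ≤ 2 ^ k := Nat.pow_le_pow_right two_pos hk3
      omega
    · exact Or.inr hq
    · exact absurd hc h4
  have htop : Subgroup.centralizer ({(⟨D.s, hsR⟩ : R)} : Set R) = ⊤ :=
    Subgroup.eq_top_of_card_eq _ (hC.trans h4.symm)
  refine hcop 1 ?_
  set t' : R := ⟨D.t, htR⟩ with ht'
  set s' : R := ⟨D.s, hsR⟩ with hs'
  have hall : ∀ v : R, v = 1 ∨ v = s' ∨ v = t' ∨ v = s' * t' := fun v => by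
    have hv : v * s' = s' * v :=
      mem_centralizer_singleton_iff.1 (htop ▸ Subgroup.mem_top v : v ∈ centralizer ({s'} : Set R))
    rcases four_self h D.hs D.ht D.comm D.ne (congrArg Subtype.val hv) (D.cent v (hR v.2))
      with e | e | e | e
    · exact Or.inl (Subtype.ext e)
    · exact Or.inr (Or.inl (Subtype.ext e))
    · exact Or.inr (Or.inr (Or.inl (Subtype.ext e)))
    · exact Or.inr (Or.inr (Or.inr (Subtype.ext e)))
  have hs1 : s' ≠ 1 := fun e => by rw [e, orderOf_one] at hso; norm_num at hso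
  have hst : s' ≠ t' := fun e => D.ne (congrArg Subtype.val e)
  have htt : t' * t' = 1 := Subtype.ext (Invol.mul_self D.ht)
  have hfix : φ (φ s') = s' := by
    rcases hall (φ s') with e | e | e | e
    · exact absurd (φ.map_eq_one_iff.1 e) hs1
    · rw [e, e]
    · exact absurd (φ.injective (e.trans hφ.symm)) hst
    · rw [e, map_mul, e, hφ, mul_assoc, htt, mul_one]
  ext v
  rw [pow_one, pow_two, MulAut.mul_apply, MulAut.one_apply]
  rcases hall v with rfl | rfl | rfl | rfl
  · simp
  · rw [hfix]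
  · rw [hφ, hφ]
  · rw [map_mul, map_mul, hfix, hφ, hφ]

/-- The centralizer of `t` is the Sylow subgroup. -/
theorem centralizer_eq (h : SC G) :
    Subgroup.centralizer ({D.t} : Set G) = (D.T : Subgroup G) := by
  haveI : Fact (Nat.Prime 2) := ⟨Nat.prime_two⟩
  set C := Subgroup.centralizer ({D.t} : Set G) with hC
  have hTC : (D.T : Subgroup G) ≤ C := fun x hx => mem_centralizer_singleton_iff.2 (D.cent x hx)
  have hsC : D.s ∈ C := hTC D.sT
  -- two conjugates of `s` in `C` generate a 2-group
  have hpair : ∀ g ∈ C, IsPGroup 2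
      (Subgroup.closure ({D.s, g * D.s * g⁻¹} : Set G)) := by
    intro g hg
    set s' := g * D.s * g⁻¹ with hs'
    have hso : orderOf s' = 2 :=
      (orderOf_injective (MulAut.conj g).toMonoidHom (MulAut.conj g).injective D.s).trans D.hs
    have hs'C : s' ∈ C := mul_mem (mul_mem hg hsC) (inv_mem hg)
    rw [← Invol.dihHom_range D.hs hso]
    suffices ∃ k, orderOf (D.s * s') = 2 ^ k by
      obtain ⟨k, hk⟩ := this
      haveI : NeZero (orderOf (D.s * s')) := ⟨(orderOf_pos _).ne'⟩
      refine IsPGroup.of_surjective ?_ _ (MonoidHom.rangeRestrict_surjective _)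
      exact IsPGroup.of_card (n := k + 1) (by rw [DihedralGroup.nat_card, hk, pow_succ']) 
    set w := D.s * s' with hw
    obtain ⟨k, m, hm, hwo⟩ := Nat.exists_eq_two_pow_mul_odd (orderOf_pos w).ne'
    refine ⟨k, ?_⟩
    by_contra hne
    have hm1 : m ≠ 1 := fun e => hne (by rw [hwo, e, mul_one])
    set w' := w ^ (2 ^ k) with hw'
    have hw'o : orderOf w' = m := by
      rw [hw', orderOf_pow' _ (by positivity), hwo, Nat.gcd_mul_right_left,
        Nat.mul_div_cancel_left _ (Nat.two_pow_pos k)]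
    have hw'1 : w' ≠ 1 := fun e => hm1 (by rw [← hw'o, e, orderOf_one])
    have hwinv : D.s * w * D.s⁻¹ = w⁻¹ := Invol.conj_mul D.hs hso
    have hinv : D.s * w' * D.s⁻¹ = w'⁻¹ := by rw [hw', ← conj_pow, hwinv, inv_pow]
    set y := D.s * w' with hy
    have hss := Invol.mul_self D.hs
    have hsi : D.s⁻¹ = D.s := inv_eq_of_mul_eq_one_right hss
    have hyo : orderOf y = 2 := by
      refine orderOf_eq_prime ?_ ?_
      · rw [pow_two, hy, ← mul_assoc, show D.s * w' * D.s = w'⁻¹ by rw [← hinv, hsi],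
          inv_mul_cancel]
      · intro e
        have e' : w' = D.s := by rw [← one_mul w', ← hss, mul_assoc]; rw [← hy, e, mul_one]
        have h2 : orderOf w' = 2 := e' ▸ D.hs
        rw [hw'o] at h2
        subst h2
        exact absurd hm (by decide)
    have hsy : D.s ≠ y := fun e => hw'1 (by simpa [hy] using e)
    have hyC : y ∈ C := mul_mem hsC (pow_mem (mul_mem hsC hs'C) _)
    set f := Invol.dihHom D.hs hyo with hf
    have hsw : D.s * y = w' := by rw [hy, ← mul_assoc, hss, one_mul]
    have hnc : ¬ IsCyclic f.range := by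
      intro hc
      letI : CommGroup f.range := IsCyclic.commGroup
      have hsm : D.s ∈ f.range := by
        rw [Invol.dihHom_range]; exact subset_closure (by simp)
      have hym : y ∈ f.range := by
        rw [Invol.dihHom_range]; exact subset_closure (by simp)
      have e : D.s * w' = w' * D.s := congrArg Subtype.val
        (mul_comm (⟨D.s, hsm⟩ : f.range) ⟨w', hsw ▸ mul_mem hsm hym⟩)
      have hsq : w' ^ 2 = 1 := by
        rw [pow_two]
        refine eq_inv_iff_mul_eq_one.1 (Eq.trans ?_ hinv)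
        exact eq_mul_inv_iff_mul_eq.2 e.symm
      exact hm1 (Nat.eq_one_of_dvd_coprimes (Nat.coprime_two_left.2 hm)
        (hw'o ▸ orderOf_dvd_of_pow_eq_one hsq) dvd_rfl)
    have htmem : D.t ∈ f.range := by
      refine sc_mem h hnc fun v hv => ?_
      have hvC : v ∈ C := by
        rw [Invol.dihHom_range] at hv
        refine (Subgroup.closure_le _).2 ?_ hv
        rintro v (rfl | rfl)
        exacts [hsC, hyC]
      exact (mem_centralizer_singleton_iff.1 hvC).symm
    obtain ⟨d, hd⟩ := htmem
    have htt := D.ht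
    have hodd : ∀ i : ℤ, (w' ^ i) ^ 2 = 1 → w' ^ i = 1 := fun i hi => by
      rw [← orderOf_eq_one_iff]
      refine Nat.eq_one_of_dvd_coprimes (Nat.coprime_two_left.2 hm)
        (orderOf_dvd_of_pow_eq_one hi) ?_
      exact hw'o ▸ orderOf_dvd_of_mem_zpowers (zpow_mem (mem_zpowers w') i)
    rcases d with i | i <;> obtain ⟨j, rfl⟩ := Invol.exists_intCast i
    · change Additive.toMul (Invol.powHom D.s y j) = D.t at hd
      rw [Invol.powHom_intCast, hsw] at hd
      have e := hodd j (by rw [hd, ← htt, pow_orderOf_eq_one])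
      rw [← hd, e, orderOf_one] at htt
      norm_num at htt
    · change D.s * Additive.toMul (Invol.powHom D.s y j) = D.t at hd
      rw [Invol.powHom_intCast, hsw] at hd
      have h1 : D.s * (D.s * w' ^ j) = (D.s * w' ^ j) * D.s := by
        rw [hd]; exact D.comm.eq
      rw [← mul_assoc, hss, one_mul] at h1
      have h2 : D.s * w' ^ j * D.s⁻¹ = (w' ^ j)⁻¹ := by rw [← conj_zpow, hinv, inv_zpow]
      rw [hsi, ← h1] at h2
      have e := hodd j (by rw [pow_two]; exact eq_inv_iff_mul_eq_one.1 h2)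
      rw [e, mul_one] at hd
      exact D.ne hd
  -- Baer-Suzuki inside `C`
  obtain ⟨N, hNn, hNp, hXN⟩ := Cfsg.Agent.S0199.result (p := 2)
    (Subgroup.zpowers (⟨D.s, hsC⟩ : C))
    (IsPGroup.of_card (n := 1) (by rw [Nat.card_zpowers, ← Subgroup.orderOf_coe, pow_one]; exact D.hs))
    (fun g => by
      have hp := hpair g g.2
      rw [MonoidHom.map_zpowers]
      refine hp.of_injective
        (ϕ := (C.subtype.comp (Subgroup.subtype _)).codRestrict _ fun v => ?_) ?_
      · have hle : (Subgroup.zpowers (⟨D.s, hsC⟩ : C) ⊔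
            Subgroup.zpowers ((MulAut.conj g).toMonoidHom ⟨D.s, hsC⟩)) ≤
            (Subgroup.closure ({D.s, (g : G) * D.s * (g : G)⁻¹} : Set G)).comap C.subtype :=
          sup_le (zpowers_le.2 (subset_closure (by simp))) (zpowers_le.2 (subset_closure (by simp)))
        exact hle v.2
      · intro a b e
        have e' := congrArg Subtype.val e; exact Subtype.ext (Subtype.ext e'))
  set R := N.map C.subtype ⊔ Subgroup.zpowers D.t with hR
  have hNR : ∀ g ∈ C, g ∈ Subgroup.normalizer (N.map C.subtype : Set G) := by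
    intro g hg
    refine mem_normalizer_iff.2 fun v => ⟨?_, ?_⟩
    · rintro ⟨⟨x, hx⟩, hxN, rfl⟩
      exact ⟨_, hNn.conj_mem _ hxN ⟨g, hg⟩, rfl⟩
    · rintro ⟨⟨x, hx⟩, hxN, hxe⟩
      refine ⟨_, hNn.conj_mem _ hxN ⟨g, hg⟩⁻¹, ?_⟩
      change g⁻¹ * x * g⁻¹⁻¹ = v
      change x = g * v * g⁻¹ at hxe
      rw [hxe]; group
  have hRC : ∀ g ∈ C, ∀ v ∈ R, g * v * g⁻¹ ∈ R := by
    intro g hg v hv
    have hle : R ≤ R.comap (MulAut.conj g).toMonoidHom := by
      refine sup_le (fun x hx => ?_) (zpowers_le.2 ?_)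
      · exact mem_sup_left ((mem_normalizer_iff.1 (hNR g hg) x).1 hx)
      · show g * D.t * g⁻¹ ∈ R
        rw [mem_centralizer_singleton_iff.1 hg, mul_inv_cancel_right]
        exact mem_sup_right (mem_zpowers _)
    exact hle hv
  have hRp : IsPGroup 2 R := IsPGroup.to_sup_of_normal_left' (hNp.map _)
    (IsPGroup.of_card (n := 1) (by rw [Nat.card_zpowers, D.ht, pow_one]))
    (zpowers_le.2 (hNR _ (hTC D.tT)))
  have hRT : R ≤ (D.T : Subgroup G) := by
    have hTN : (D.T : Subgroup G) ≤ Subgroup.normalizer (R : Set G) := fun g hg =>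
      mem_normalizer_iff.2 fun v => ⟨hRC g (hTC hg) v, fun hv => by
        have := hRC g⁻¹ (inv_mem (hTC hg)) _ hv
        simpa [mul_assoc] using this⟩
    have := D.T.is_maximal' (IsPGroup.to_sup_of_normal_left' hRp D.T.isPGroup' hTN) le_sup_right
    rw [← this]
    exact le_sup_left
  have htR : D.t ∈ R := mem_sup_right (mem_zpowers _)
  have hsR : D.s ∈ R := mem_sup_left ⟨⟨D.s, hsC⟩, hXN (mem_zpowers _), rfl⟩
  -- elements of odd order of `C` are trivial
  have hoddC : ∀ g ∈ C, Odd (orderOf g) → g = 1 := by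
    intro g hg hodd
    have hgN : g ∈ Subgroup.normalizer (R : Set G) := mem_normalizer_iff.2 fun v =>
      ⟨hRC g hg v, fun hv => by
        have := hRC g⁻¹ (inv_mem hg) _ hv
        simpa [mul_assoc] using this⟩
    have hφ := D.aut_trivial h hRT htR hsR (R.normalizerMonoidHom ⟨g, hgN⟩) hodd
      (by rw [← map_pow, show (⟨g, hgN⟩ : Subgroup.normalizer (R : Set G)) ^ orderOf g = 1 from
        Subtype.ext (by simp [pow_orderOf_eq_one]), map_one])
      (Subtype.ext (show g * D.t * g⁻¹ = D.t by
        rw [mem_centralizer_singleton_iff.1 hg, mul_inv_cancel_right]))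
    have hgs : g * D.s * g⁻¹ = D.s := by
      have := congrArg (fun z : MulAut R => (z ⟨D.s, hsR⟩ : G)) hφ
      exact this
    have hg2 : g ^ 2 = 1 := by
      rcases four_self h D.hs D.ht D.comm D.ne (mul_inv_eq_iff_eq_mul.1 hgs)
        (mem_centralizer_singleton_iff.1 hg) with e | e | e | e
      · rw [e, one_pow]
      · rw [e, pow_two, Invol.mul_self D.hs]
      · rw [e, pow_two, Invol.mul_self D.ht]
      · rw [e, D.comm.mul_pow, pow_two, pow_two, Invol.mul_self D.hs, Invol.mul_self D.ht, mul_one]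
    rw [← orderOf_eq_one_iff]
    exact Nat.eq_one_of_dvd_coprimes (Nat.coprime_two_left.2 hodd)
      (orderOf_dvd_of_pow_eq_one hg2) dvd_rfl
  have hCp : IsPGroup 2 C := fun x => by
    obtain ⟨k, m, hm, hxo⟩ := Nat.exists_eq_two_pow_mul_odd (orderOf_pos (x : G)).ne'
    refine ⟨k, Subtype.ext (hoddC _ (pow_mem x.2 _) ?_)⟩
    rw [SubgroupClass.coe_pow, orderOf_pow' _ (by positivity), hxo, Nat.gcd_mul_right_left,
      Nat.mul_div_cancel_left _ (Nat.two_pow_pos k)]
    exact hm
  exact D.T.is_maximal' hCp hTC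

theorem not_odd_of_centralizer (h : SC G) {g : G} (hg : g * D.t = D.t * g)
    (ho : Odd (orderOf g)) : g = 1 := by
  haveI : Fact (Nat.Prime 2) := ⟨Nat.prime_two⟩
  have hgT : g ∈ (D.T : Subgroup G) := by
    rw [← D.centralizer_eq h]; exact mem_centralizer_singleton_iff.2 hg
  obtain ⟨k, hk⟩ := D.T.isPGroup' ⟨g, hgT⟩
  rw [← orderOf_eq_one_iff]
  refine Nat.eq_one_of_dvd_coprimes ((Nat.coprime_two_left.2 ho).pow_left k) ?_ dvd_rfl
  exact orderOf_dvd_of_pow_eq_one (congrArg Subtype.val hk)

/-- The Sylow subgroup is dihedral. -/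
theorem dihedral [IsSimpleGroup G] (hna : ¬ IsMulCommutative G) (h : SC G) :
    ∃ n : ℕ, 2 ≤ n ∧ Nonempty ((D.T : Subgroup G) ≃* DihedralGroup n) := by
  haveI : Fact (Nat.Prime 2) := ⟨Nat.prime_two⟩
  have hC := D.card_cent' h le_rfl D.tT D.sT
  have hso : orderOf (⟨D.s, D.sT⟩ : (D.T : Subgroup G)) = 2 := by
    rw [← Subgroup.orderOf_coe]; exact D.hs
  have h4 : 4 ≤ Nat.card (D.T : Subgroup G) :=
    hC ▸ Subgroup.card_le_card_group _
  rcases CentFour.dihedral_or_quasiDihedral D.T.isPGroup' hso hC with ⟨n, ⟨e⟩⟩ | hq | hc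
  · refine ⟨n, ?_, ⟨e⟩⟩
    rw [Nat.card_congr e.toEquiv, DihedralGroup.nat_card] at h4
    omega
  · exfalso
    obtain ⟨d, -⟩ := QD.exists_pres hq
    obtain ⟨E, hE, hsE, htE⟩ := BrauerSuzuki.exists_klein D.hs D.ht D.comm D.ne
    have hET : E ≤ (D.T : Subgroup G) := by
      have hs1 : D.s ≠ 1 := fun e => by have := D.hs; rw [e, orderOf_one] at this; norm_num at this
      have ht1 : D.t ≠ 1 := fun e => by have := D.ht; rw [e, orderOf_one] at this; norm_num at this
      intro v hv
      rw [FourGroup.eq_four hE hsE htE hs1 ht1 D.ne, FourGroup.mem_four] at hv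
      rcases hv with rfl | rfl | rfl | rfl
      exacts [one_mem _, D.sT, D.tT, mul_mem D.sT D.tT]
    have h8 : QDFus.QuatTrivial D.T := by
      rintro Q ⟨eQ⟩ hQT g hg ho
      set c : Q := eQ.symm (.a 2) with hc
      have hc2 : orderOf (c : G) = 2 := by
        rw [Subgroup.orderOf_coe, hc, MulEquiv.orderOf_eq]
        exact orderOf_eq_prime (by decide +kernel) (by decide +kernel)
      have hcz : ∀ v ∈ Q, v * (c : G) = c * v := fun v hv => by
        have : ∀ a : QuaternionGroup 2, a * .a 2 = .a 2 * a := by decide +kernel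
        have := congrArg eQ.symm (this (eQ ⟨v, hv⟩))
        rw [map_mul, map_mul, eQ.symm_apply_apply, ← hc] at this
        exact congrArg Subtype.val this
      have huniq : ∀ a : QuaternionGroup 2, a * a = 1 → a = 1 ∨ a = .a 2 := by decide +kernel
      have hct : (c : G) = D.t := by
        by_contra hne
        have h4' := D.card_cent h le_rfl D.tT hc2 hne (hQT c.2)
        have hle : Q.subgroupOf (D.T : Subgroup G) ≤
            Subgroup.centralizer ({(⟨c, hQT c.2⟩ : (D.T : Subgroup G))} : Set _) := fun v hv =>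
          mem_centralizer_singleton_iff.2 (Subtype.ext (hcz v hv))
        have := Nat.card_le_card_of_injective _ (Subgroup.inclusion_injective hle)
        rw [h4', Nat.card_congr (Subgroup.subgroupOfEquivOfLe hQT).toEquiv,
          Nat.card_congr eQ.toEquiv, Nat.card_eq_fintype_card, QuaternionGroup.card] at this
        omega
      suffices g * D.t = D.t * g by
        rw [D.not_odd_of_centralizer h this ho]; exact one_mem _
      have hm : g * D.t * g⁻¹ ∈ Q := (mem_normalizer_iff.1 hg _).1 (hct ▸ c.2)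
      have hsq : (⟨_, hm⟩ : Q) * ⟨_, hm⟩ = 1 := Subtype.ext (by
        show g * D.t * g⁻¹ * (g * D.t * g⁻¹) = 1
        rw [conj_mul, Invol.mul_self D.ht, mul_one, mul_inv_cancel])
      rcases huniq (eQ ⟨_, hm⟩) (by rw [← map_mul, hsq, map_one]) with e | e
      · exfalso
        have e' : g * D.t * g⁻¹ = 1 := congrArg Subtype.val (eQ.map_eq_one_iff.1 e)
        have := D.ht
        rw [conj_eq_one_iff.1 e', orderOf_one] at this
        norm_num at this
      · have e' : (⟨_, hm⟩ : Q) = c := by rw [hc, ← e, eQ.symm_apply_apply]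
        exact mul_inv_eq_iff_eq_mul.1 ((congrArg Subtype.val e').trans hct)
    rcases (QDFus.local_indices D.T d).1 E hE hET with h2 | h6
    · have hcomp := QDFus.has_complement D.T d (QDFus.fourTrivial D.T d hE hET h2) h8
      obtain ⟨P, N, hN, hNc⟩ := hcomp
      rcases IsSimpleGroup.eq_bot_or_eq_top_of_normal N hN with hb | htp
      · subst hb
        have hPtop : (P : Subgroup G) = ⊤ := Subgroup.eq_top_of_card_eq _ (by
          have := hNc.card_mul_card; rwa [Subgroup.card_bot, one_mul] at this)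
        exact not_isPGroup hna 2 ((hPtop ▸ P.isPGroup').of_equiv Subgroup.topEquiv)
      · subst htp
        exact P.ne_bot_of_dvd_card (two_dvd hna h) (Subgroup.isComplement'_top_left.1 hNc)
    · obtain ⟨K, hK, hK2, -, -⟩ :=
        QDFus.dihedral_K D.T d (QDFus.fourFull D.T d hE hET h6) h8
      rcases IsSimpleGroup.eq_bot_or_eq_top_of_normal K hK with hb | htp
      · subst hb
        rw [Subgroup.index_bot] at hK2
        exact not_isPGroup hna 2 (IsPGroup.of_card (n := 1) (by rw [hK2, pow_one]))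
      · subst htp
        rw [Subgroup.index_top] at hK2
        norm_num at hK2
  · refine ⟨2, le_rfl, ?_⟩
    set s' : (D.T : Subgroup G) := ⟨D.s, D.sT⟩
    set t' : (D.T : Subgroup G) := ⟨D.t, D.tT⟩
    have hto : orderOf t' = 2 := by rw [← Subgroup.orderOf_coe]; exact D.ht
    have hne : s' ≠ t' := fun e => D.ne (congrArg Subtype.val e)
    have hcm : s' * t' = t' * s' := Subtype.ext D.comm.eq
    have hord : orderOf (s' * t') = 2 := by
      refine orderOf_eq_prime ?_ ?_
      · rw [(show Commute s' t' from hcm).mul_pow, pow_two, pow_two, Invol.mul_self hso,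
          Invol.mul_self hto, mul_one]
      · intro e
        exact hne (by rw [mul_eq_one_iff_eq_inv] at e; rw [e, inv_eq_of_mul_eq_one_right (Invol.mul_self hto)])
    haveI : NeZero (orderOf (s' * t')) := ⟨by rw [hord]; norm_num⟩
    have hb : Function.Bijective (Invol.dihHom hso hto) := by
      rw [Nat.bijective_iff_injective_and_card]
      exact ⟨Invol.dihHom_injective hso hto hne, by rw [DihedralGroup.nat_card, hord, hc]⟩
    have e := (MulEquiv.ofBijective _ hb).symm
    rw [hord] at e
    exact ⟨e⟩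

include D in
/-- The projective special linear group. -/
theorem exists_psl [IsSimpleGroup G] (hna : ¬ IsMulCommutative G) (h : SC G) :
    ∃ (F : Type) (_ : Field F) (_ : Fintype F), Odd (Fintype.card F) ∧
      Nonempty (G ≃* Matrix.ProjectiveSpecialLinearGroup (Fin 2) F) := by
  haveI : Fact (Nat.Prime 2) := ⟨Nat.prime_two⟩
  obtain ⟨n, hn, he⟩ := D.dihedral hna h
  set C := Subgroup.centralizer ({D.t} : Set G) with hC
  have hO : (Cfsg.oddCore C).map C.subtype = ⊥ := by
    refine eq_bot_iff.2 fun v hv => ?_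
    obtain ⟨w, hw, rfl⟩ := hv
    rw [Subgroup.mem_bot]
    refine D.not_odd_of_centralizer h (mem_centralizer_singleton_iff.1 w.2) ?_
    rw [Subgroup.coe_subtype, Subgroup.orderOf_coe]
    exact (Nat.coprime_two_right.1 (PBasic.pPrimeCore_coprime 2 C)).of_dvd_nat
      (Subgroup.orderOf_dvd_natCard _ hw)
  refine Cfsg.Agent.S0508.result D.T n hn he D.t D.ht D.tT D.cent ⊥ (hC ▸ hO.symm)
    (fun hh => absurd rfl hh) (fun s _ hs => absurd ?_ hs) (fun Y hY hY1 => absurd (le_bot_iff.1 hY) hY1)
  simp [mem_centralizer_iff]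

end Frame

end Cfsg.Agent.SelfCentNC
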